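import Groth.Agent.L29.BidualSch.Abstract
import Mathlib.Algebra.Homology.HomotopyCategory.SingleFunctors
import Mathlib.Algebra.Category.ModuleCat.Abelian

/-!
Generalities on complexes for biduality: exact functors and homology, singles, naturality of internal Hom.
-/

set_option autoImplicit false
set_option backward.defeqAttrib.useBackward true
set_option backward.isDefEq.respectTransparency false
set_option backward.isDefEq.respectTransparency.types false

universe v v' u u'

open CategoryTheory CategoryTheory.Limits CochainComplex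

namespace Groth.L29.BidualSch

open Groth.L29.DC

variable {C : Type u} [Category.{v} C] [Abelian C] {B : Type u'} [Category.{v'} B] [Abelian B]

/-- an exact functor commutes with cohomology -/
theorem nonempty_homologyIso (T : C ⥤ B) [T.Additive] [PreservesFiniteLimits T] [PreservesFiniteColimits T]
    (tc : CochainComplex C ℤ ⥤ CochainComplex B ℤ) (h : tc = T.mapHomologicalComplex (ComplexShape.up ℤ)) (n : ℤ) :
    Nonempty (tc ⋙ HomologicalComplex.homologyFunctor B (ComplexShape.up ℤ) n ≅
      HomologicalComplex.homologyFunctor C (ComplexShape.up ℤ) n ⋙ T) := by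
  subst h
  exact ⟨NatIso.ofComponents (fun K => (K.sc n).mapHomologyIso T) (fun {K L} f =>
    ShortComplex.mapHomologyIso_hom_naturality
      ((HomologicalComplex.shortComplexFunctor C (ComplexShape.up ℤ) n).map f) T)⟩

/-- singles are shifts of singles, also after a termwise functor -/
theorem nonempty_single_shift (T : C ⥤ B) [T.Additive]
    (tc : CochainComplex C ℤ ⥤ CochainComplex B ℤ) (h : tc = T.mapHomologicalComplex (ComplexShape.up ℤ))
    (M : C) (p : ℤ) :
    Nonempty (tc.obj ((HomologicalComplex.single C (ComplexShape.up ℤ) p).obj M) ≅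
      (tc.obj ((HomologicalComplex.single C (ComplexShape.up ℤ) 0).obj M))⟦-p⟧) := by
  subst h
  exact ⟨(HomologicalComplex.singleMapHomologicalComplex T (ComplexShape.up ℤ) p).app M ≪≫
    (((CochainComplex.singleFunctors B).shiftIso (-p) p 0 (by omega)).app (T.obj M)).symm ≪≫
    (CategoryTheory.shiftFunctor (CochainComplex B ℤ) (-p)).mapIso
      ((HomologicalComplex.singleMapHomologicalComplex T (ComplexShape.up ℤ) 0).app M).symm⟩

theorem quasiIso_of_natIso_id {F : CochainComplex B ℤ ⥤ CochainComplex B ℤ} (i : F ≅ 𝟭 _) {M M' : CochainComplex B ℤ}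
    (g : M ⟶ M') [QuasiIso g] : QuasiIso (F.map g) := by
  have h : F.map g = i.hom.app M ≫ g ≫ i.inv.app M' := by
    erw [← Category.assoc, ← i.hom.naturality g, Category.assoc, Iso.hom_inv_id_app, Category.comp_id]
  rw [h]
  infer_instance

theorem quasiIso_app {F G : CochainComplex B ℤ ⥤ CochainComplex B ℤ} (t : F ⟶ G) {P P' : CochainComplex B ℤ}
    (i : P ≅ P') [QuasiIso (t.app P')] : QuasiIso (t.app P) := by
  have h : t.app P = F.map i.hom ≫ t.app P' ≫ G.map i.inv := by
    rw [← Category.assoc, t.naturality, Category.assoc, ← G.map_comp, Iso.hom_inv_id, G.map_id, Category.comp_id]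
  rw [h]
  infer_instance

variable (Φ : CochainComplex B ℤ ⥤ CochainComplex B ℤ ⥤ CochainComplex B ℤ) [∀ X, (Φ.obj X).IsLeftAdjoint]

theorem map_m {M M' : CochainComplex B ℤ} (f : M ⟶ M') {L L' : CochainComplex B ℤ} (g : L ⟶ L') :
    RHomExact.mate (HomCx.adj Φ M) (HomCx.adj Φ M') (Φ.map f) L ≫ (HomCx.H Φ M).map g =
      (HomCx.H Φ M').map g ≫ RHomExact.mate (HomCx.adj Φ M) (HomCx.adj Φ M') (Φ.map f) L' := by
  apply ((HomCx.adj Φ M).homEquiv _ _).symm.injective
  rw [Adjunction.homEquiv_naturality_right_symm, RHomExact.mate, Equiv.symm_apply_apply, RHomExact.symm_comp_mate]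
  simp [Adjunction.homEquiv_counit]

/-- a quasi-isomorphism between complexes isomorphic in the derived category -/
theorem exists_quasiIso [HasDerivedCategory B] {K L : CochainComplex B ℤ} [L.IsKInjective]
    (e : DerivedCategory.Q.obj K ≅ DerivedCategory.Q.obj L) : ∃ g : K ⟶ L, QuasiIso g := by
  obtain ⟨g, hg⟩ := DerAdj.exists_Q_map (I := L) e.hom
  exact ⟨g, (DerivedCategory.isIso_Q_map_iff_quasiIso _ _).1 (by rw [hg]; infer_instance)⟩

/-- a roof from an isomorphism in the derived category -/
theorem exists_roof [HasDerivedCategory B] {K L : CochainComplex B ℤ}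
    (e : DerivedCategory.Q.obj K ≅ DerivedCategory.Q.obj L) :
    ∃ (P : CochainComplex B ℤ) (s : P ⟶ K) (t : P ⟶ L), QuasiIso s ∧ QuasiIso t := by
  obtain ⟨P, s, hs, g, hg⟩ := DerivedCategory.right_fac e.hom
  haveI : IsIso (DerivedCategory.Q.map g) := by
    rw [show DerivedCategory.Q.map g = DerivedCategory.Q.map s ≫ e.hom by rw [hg, IsIso.hom_inv_id_assoc]]
    infer_instance
  exact ⟨P, s, g, (DerivedCategory.isIso_Q_map_iff_quasiIso _ s).1 inferInstance,
    (DerivedCategory.isIso_Q_map_iff_quasiIso _ g).1 inferInstance⟩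

end Groth.L29.BidualSch
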