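import Groth.Agent.L29.BidualSch.Abstract
import Groth.Agent.L29.DCoh.Eval
import Groth.Agent.L29.DCoh.RpushRestrict
import Groth.Agent.L29.Dual.AffineAlpha

/-!
The symmetry of the tensor product of complexes as an isomorphism of bifunctors, and its restriction to open
subschemes, natural in both variables.
-/

set_option autoImplicit false
set_option backward.defeqAttrib.useBackward true
set_option backward.isDefEq.respectTransparency false
set_option backward.isDefEq.respectTransparency.types false

universe u

open CategoryTheory CategoryTheory.Limits AlgebraicGeometry CochainComplex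

namespace Groth.L00.KFlat

variable {X : Scheme.{u}}

/-- naturality of the symmetry in the second variable -/
theorem commIso_natural₂ (L : CochainComplex X.Modules ℤ) {E E' : CochainComplex X.Modules ℤ} (a : E ⟶ E') :
    ((DCoh.tensorCx (X := X)).map a).app L ≫ (commIso L E').hom = (commIso L E).hom ≫ (T L).map a := by
  ext n : 1
  refine HomologicalComplex.mapBifunctor.hom_ext fun q p h => ?_
  have h' : p + q = n := by dsimp at h; omega
  have h1 : HomologicalComplex.ιMapBifunctor E L (DCoh.tensorBi (X := X)) (ComplexShape.up ℤ) q p n h ≫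
      (((DCoh.tensorCx (X := X)).map a).app L).f n =
      ((DCoh.tensorBi (X := X)).map (a.f q)).app (L.X p) ≫
        HomologicalComplex.ιMapBifunctor E' L (DCoh.tensorBi (X := X)) (ComplexShape.up ℤ) q p n h := by
    refine (HomologicalComplex.ι_mapBifunctorMap a (𝟙 L) (DCoh.tensorBi (X := X)) (ComplexShape.up ℤ) q p n h).trans ?_
    rw [HomologicalComplex.id_f, CategoryTheory.Functor.map_id, Category.id_comp]
  rw [HomologicalComplex.comp_f, HomologicalComplex.comp_f, reassoc_of% h1, commIso_ι,
    ← Category.assoc (f := HomologicalComplex.ιMapBifunctor E L _ _ q p n h), commIso_ι, Category.assoc,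
    Linear.units_smul_comp, BifExact.ι_T_map]
  rw [Linear.comp_units_smul, Linear.comp_units_smul, Linear.comp_units_smul]
  refine congrArg (fun k => ComplexShape.σ (ComplexShape.up ℤ) (ComplexShape.up ℤ) (ComplexShape.up ℤ) p q • k) ?_
  rw [← Category.assoc, ← Category.assoc]
  refine congrArg (fun k => k ≫ HomologicalComplex.ιMapBifunctor L E' (DCoh.tensorBi (X := X)) (ComplexShape.up ℤ) p q n h') ?_
  exact commβ_natural₁ (a.f q) (L.X p)

end Groth.L00.KFlat

namespace Groth.L29.BidualSch

open Groth.L00 Groth.L29.DC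

variable {X : Scheme.{u}}

variable {U : Scheme.{u}} (j : U ⟶ X) [IsOpenImmersion j]

theorem restrictTensor_natural {K K' L L' : CochainComplex X.Modules ℤ} (f : K ⟶ K') (g : L ⟶ L') :
    HomologicalComplex.mapBifunctorMap ((ExtZero.rCx j).map f) ((ExtZero.rCx j).map g)
        (DCoh.tensorBi (X := U)) (ComplexShape.up ℤ) ≫ (restrictTensorCxIso j K' L').hom =
      (restrictTensorCxIso j K L).hom ≫ (ExtZero.rCx j).map
        (HomologicalComplex.mapBifunctorMap f g (DCoh.tensorBi (X := X)) (ComplexShape.up ℤ)) := by
  haveI : PreservesColimitsOfSize.{0, 0} (Scheme.Modules.restrictFunctor j) :=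
    preservesColimitsOfSize_shrink.{0, u, 0, u} _
  unfold restrictTensorCxIso
  apply Groth.L00.FunctorTotal.totalIso_natural
  intro M M' f N
  have e : ∀ {Z : Scheme.{u}} {A A' : Z.Modules} (φ : A ⟶ A') (B : Z.Modules),
      ((DCoh.tensorBi (X := Z)).map φ).app B = Groth.L00.Tensor.tensorMap φ (𝟙 B) := fun φ B => by
    refine congrArg (Groth.L00.Tensor.shf _).map ?_
    rw [CategoryTheory.Functor.map_id]
    exact (MonoidalCategory.tensorHom_id _ _).symm
  rw [e, e, ← Groth.L29.DC.tensorRestrict_natural j f (𝟙 N), CategoryTheory.Functor.map_id]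

theorem res_tensor_natural₁ (M : CochainComplex X.Modules ℤ) {P Q : CochainComplex X.Modules ℤ} (f : P ⟶ Q) :
    ((Eval.PhiR U).obj ((EvalLocal.rr (ExtZero.res j)).obj M)).map ((EvalLocal.rr (ExtZero.res j)).map f) ≫
        (restrictTensorCxIso j Q M).hom =
      (restrictTensorCxIso j P M).hom ≫ (EvalLocal.rr (ExtZero.res j)).map (((Eval.PhiR X).obj M).map f) := by
  have h := restrictTensor_natural j f (𝟙 M)
  rw [CategoryTheory.Functor.map_id] at h
  rw [AffineDual.bridge₁, AffineDual.bridge₁]
  exact h

theorem res_tensor_natural₂ {M M' : CochainComplex X.Modules ℤ} (g : M ⟶ M') (P : CochainComplex X.Modules ℤ) :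
    ((Eval.PhiR U).map ((EvalLocal.rr (ExtZero.res j)).map g)).app ((EvalLocal.rr (ExtZero.res j)).obj P) ≫
        (restrictTensorCxIso j P M').hom =
      (restrictTensorCxIso j P M).hom ≫ (EvalLocal.rr (ExtZero.res j)).map (((Eval.PhiR X).map g).app P) := by
  have h := restrictTensor_natural j (𝟙 P) g
  rw [CategoryTheory.Functor.map_id] at h
  rw [AffineDual.bridge₂, AffineDual.bridge₂]
  exact h

instance isIso_unitCx : IsIso (ExtZero.adjCx j).unit := by
  haveI : ∀ K, IsIso ((ExtZero.adjCx j).unit.app K) := fun K => by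
    haveI : ∀ i, IsIso (((ExtZero.adjCx j).unit.app K).f i) := fun i => by
      have h : ((ExtZero.adjCx j).unit.app K).f i = (CxOX.extZeroAdj j).unit.app (K.X i) := by
        simp [ExtZero.adjCx, Adjunction.mkOfHomEquiv_unit_app, DerAdj.ηI]
      rw [h]; infer_instance
    exact HomologicalComplex.Hom.isIso_of_components _
  exact NatIso.isIso_of_isIso_app _

/-- tensor products with an extension by zero are extensions by zero -/
theorem essImage_tensor (M : CochainComplex X.Modules ℤ) (P : CochainComplex U.Modules ℤ) :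
    (ExtZero.eCx j).essImage (((Eval.PhiR X).obj M).obj ((ExtZero.eCx j).obj P)) :=
  ⟨_, ⟨((ExtZero.projFunctor j M).app P).symm⟩⟩

theorem acyclic_D (J : CochainComplex X.Modules ℤ) [J.IsKInjective] (M : CochainComplex X.Modules ℤ)
    (h : ((EvalLocal.rr (ExtZero.res j)).obj M).Acyclic) :
    ((EvalLocal.rr (ExtZero.res j)).obj (D (Eval.PhiR X) J M)).Acyclic :=
  HomCx.acyclic_res (Eval.dataR X) J (CxOX.extZeroAdj j) M fun T => by
    obtain ⟨F, p, hp, hF⟩ := Eval.test j M h T
    exact ⟨F, p, hp, fun n => (hF n).1⟩

end Groth.L29.BidualSch
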