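import Groth.Agent.L29.BidualSch.Main
import Groth.Agent.L29.BidualSch.Setup
import Groth.Agent.L29.BidualSch.Basics
import Groth.Agent.L29.Dual.AffineInst
import Groth.Agent.L29.DCoh.TildeAlg
import Groth.Agent.L29.DCoh.TildeD
import Groth.Agent.L29.DCoh.RHomCoh
import Groth.Agent.L29.Sib.QCohInj
import Groth.Agent.L10.DRing.InjAmp

/-!
Biduality with respect to a dualizing complex on an affine chart of a scheme.
-/

set_option autoImplicit false
set_option backward.defeqAttrib.useBackward true
set_option backward.isDefEq.respectTransparency false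
set_option backward.isDefEq.respectTransparency.types false
set_option linter.style.haveILetI false

universe u

open CategoryTheory CategoryTheory.Limits AlgebraicGeometry CochainComplex

attribute [local instance] HasDerivedCategory.standard

namespace Groth.L29.BidualSch

open Groth.L29.DC Groth.L00

/-- finite cohomology, on complexes -/
theorem finite_toD {A : Type u} [CommRing A] (K : DRing.Cx A) (i : ℤ) (h : Module.Finite A (K.homology i)) :
    Module.Finite A (Dual.HD A (DRing.toD K) i) :=
  haveI : Module.Finite A ((HomologicalComplex.homologyFunctor (ModuleCat.{u} A) (ComplexShape.up ℤ) i).obj K) := h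
  Module.Finite.equiv ((DerivedCategory.homologyFunctorFactors (ModuleCat.{u} A) i).app K).toLinearEquiv.symm

theorem finite_single {A : Type u} [CommRing A] (p i : ℤ) :
    Module.Finite A (Dual.HD A (DRing.toD (BidualCx.rk1 (A := A) p)) i) := by
  refine finite_toD _ i ?_
  by_cases h : i = p
  · subst h
    exact Module.Finite.equiv
      (HomologicalComplex.singleObjHomologySelfIso (ComplexShape.up ℤ) i (ModuleCat.of A A)).toLinearEquiv.symm
  · haveI : Subsingleton ((BidualCx.rk1 (A := A) p).homology i) := ModuleCat.subsingleton_of_isZero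
      (HomologicalComplex.isZero_single_obj_homology _ _ _ _ h)
    infer_instance

/-- an injective complex computing a dualizing complex, with biduality -/
theorem exists_model {A : Type u} [CommRing A] [IsNoetherianRing A] {ω : Dual.D A} (hω : Dual.IsDualizing A ω) :
    ∃ (a b : ℤ) (I : DRing.Cx A), DRing.VanishesOutside I a b ∧ (∀ i, Module.Injective A (I.X i)) ∧
      Nonempty (DRing.toD I ≅ ω) ∧
      ∀ K : DRing.Cx A, (∀ i, Module.Finite A (Dual.HD A (DRing.toD K) i)) →
        (∀ i, Module.Finite A (Dual.HD A (DRing.toD (DRing.homCx K I)) i)) ∧ QuasiIso (BidualCx.ev I K) := by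
  obtain ⟨a, b, hab⟩ := hω.finite_injective_dimension
  obtain ⟨I, hI, hinj, ⟨eI⟩⟩ := Groth.L10.DR.injAmp_of_vanishing (K := ω) (a := a) (b := b)
    fun J i hi => hab (A ⧸ J) i hi
  haveI : ∀ i, Injective (I.X i) := fun i => by
    haveI := hinj i
    exact Module.injective_object_of_injective_module A (I.X i)
  haveI : I.IsStrictlyGE a := (CochainComplex.isStrictlyGE_iff _ _).2 fun i hi => hI i (Or.inl hi)
  haveI : I.IsKInjective := CochainComplex.isKInjective_of_injective I a
  have hbij : Function.Bijective (fun x : A => x • 𝟙 (DRing.toD I)) := by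
    have h : (fun x : A => x • 𝟙 (DRing.toD I)) =
        (Linear.homCongr A eI.symm eI.symm) ∘ fun x : A => x • 𝟙 ω := by
      funext x
      simp [Linear.homCongr]
    rw [h]
    exact (Linear.homCongr A eI.symm eI.symm).bijective.comp hω.toEnd_bijective
  have hself : ∀ i : ℤ, i ≠ 0 → Subsingleton (DRing.toD I ⟶ (DRing.toD I)⟦i⟧) := fun i hi => by
    haveI := hω.ext_self_subsingleton i hi
    exact (Iso.homCongr eI ((CategoryTheory.shiftFunctor (Dual.D A) i).mapIso eI)).subsingleton
  have hfin : ∀ i : ℤ, Module.Finite A (Dual.HD A (DRing.toD I) i) := fun i => by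
    haveI := hω.finite_cohomology i
    exact Module.Finite.equiv
      ((DerivedCategory.homologyFunctor (ModuleCat.{u} A) i).mapIso eI).toLinearEquiv.symm
  exact ⟨a, b, I, hI, hinj, ⟨eI⟩, fun K hK => ⟨fun i => finite_toD _ i
    (BidualCx.good I hI hbij hself hfin K hK i).2, BidualCx.quasiIso_ev I hI hbij hself hfin K hK⟩⟩

variable {X : Scheme.{u}}

/-- coherent cohomology on an affine chart gives finite modules -/
theorem exists_finite_model {R : CommRingCat.{u}} [PreservesFiniteLimits (tilde.functor R)] (M : DCoh.D (Spec R))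
    (hM : DCoh.IsCohD M) :
    ∃ K : DRing.Cx R, (∀ i, Module.Finite R (Dual.HD R (DRing.toD K) i)) ∧
      Nonempty (DerivedCategory.Q.obj ((ModRes.tCx R).obj K) ≅ M) := by
  obtain ⟨N, ⟨e⟩⟩ := (TildeD.isQCohD_iff M).1 fun i => (hM i).1
  refine ⟨DerivedCategory.Q.objPreimage N, fun i => ?_, ⟨(TildeAlg.qIso _).symm ≪≫
    (DCoh.tildeD R).mapIso (DerivedCategory.Q.objObjPreimageIso N) ≪≫ e⟩⟩
  haveI : Coh.IsQCoh (DCoh.HD M i) := (hM i).1
  exact Groth.L16.CohKernel.finite_of_tilde_iso (DCoh.HD M i) (hM i).2 (𝟙 (Spec R)) _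
    ((Scheme.Modules.restrictFunctorId).app _ ≪≫ (DerivedCategory.homologyFunctor _ i).mapIso e.symm ≪≫
      TildeAlg.hdIso N i ≪≫ (tilde.functor R).mapIso ((DerivedCategory.homologyFunctor _ i).mapIso
        (DerivedCategory.Q.objObjPreimageIso N).symm))

/-- biduality and coherence of the dual on a chart -/
theorem chart {R : CommRingCat.{u}} [IsNoetherianRing R] [PreservesFiniteLimits (tilde.functor R)] (j : Spec R ⟶ X)
    [IsOpenImmersion j] [PreservesFiniteLimits (ExtZero.res j)] (J : CochainComplex X.Modules ℤ) [J.IsKInjective]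
    (ω : Dual.D R) (hω : Dual.IsDualizing R ω)
    (eJ : (DCoh.restrictD j).obj (DCoh.toD X J) ≅ (DCoh.tildeD R).obj ω)
    (L : CochainComplex X.Modules ℤ) (hL : DCoh.IsCohD ((DCoh.restrictD j).obj (DCoh.toD X L))) :
    P (Φ := Eval.PhiR X) (fun Y M => KFlat.commIso Y M) J (ExtZero.res j) L ∧
      DCoh.IsCohD ((DCoh.restrictD j).obj (DCoh.toD X (D (Eval.PhiR X) J L))) := by
  obtain ⟨a, b, I, hI, hinj, ⟨eI⟩, hgood⟩ := exists_model hω
  haveI : ∀ i, Injective (I.X i) := fun i => by
    haveI := hinj i
    exact Module.injective_object_of_injective_module R (I.X i)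
  haveI : I.IsStrictlyGE a := (CochainComplex.isStrictlyGE_iff _ _).2 fun i hi => hI i (Or.inl hi)
  haveI : I.IsKInjective := CochainComplex.isKInjective_of_injective I a
  haveI : ((ModRes.tCx R).obj I).IsStrictlyGE a := (CochainComplex.isStrictlyGE_iff _ _).2 fun i hi =>
    (tilde.functor R).map_isZero (hI i (Or.inl hi))
  haveI : ∀ i, Injective (((ModRes.tCx R).obj I).X i) := fun i => QCohInj.injective_tilde (I.X i) (hinj i)
  haveI : ((ModRes.tCx R).obj I).IsKInjective := CochainComplex.isKInjective_of_injective _ a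
  haveI : ((EvalLocal.rr (ExtZero.res j)).obj J).IsKInjective := RpushRes.isKInjective_res j J
  obtain ⟨K, hK, ⟨eK⟩⟩ := exists_finite_model _ hL
  let fac := (ExtZero.res j).mapDerivedCategoryFactors
  obtain ⟨g, hg⟩ := exists_quasiIso (L := (EvalLocal.rr (ExtZero.res j)).obj J)
    ((TildeAlg.qIso I).symm ≪≫ (DCoh.tildeD R).mapIso eI ≪≫ eJ.symm ≪≫ fac.app J)
  obtain ⟨L', s₁, s₂, hs₁, hs₂⟩ := exists_roof (K := (EvalLocal.rr (ExtZero.res j)).obj L)
    (L := (ModRes.tCx R).obj K) ((fac.app L).symm ≪≫ eK.symm)
  haveI : Functor.Additive (D := (Spec R).Modules) (tilde.functor R) :=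
    @inferInstance ((tilde.functor R).Additive) _
  haveI : PreservesColimitsOfSize.{u, u} (tilde.functor R) :=
    (tilde.adjunction (R := R)).leftAdjoint_preservesColimits
  haveI : PreservesColimitsOfSize.{0, 0} (tilde.functor R) := preservesColimitsOfSize_shrink.{0, u, 0, u} _
  haveI : PreservesFiniteColimits (tilde.functor R) :=
    PreservesColimitsOfSize.preservesFiniteColimits.{0, 0} _
  haveI : Functor.Full (D := (Spec R).Modules) (tilde.functor R) := @inferInstance ((tilde.functor R).Full) _
  haveI : Functor.Faithful (D := (Spec R).Modules) (tilde.functor R) := @inferInstance ((tilde.functor R).Faithful) _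
  have hT := fun n => nonempty_homologyIso (B := (Spec R).Modules) (tilde.functor R) (ModRes.tCx R) rfl n
  obtain ⟨i₀⟩ := AffineDual.rk1TildeIso (R := R)
  let ctx : Ctx (Eval.PhiR X) (Eval.PhiR (Spec R)) (ExtZero.eCx j) (EvalLocal.rr (ExtZero.res j)) :=
    { c := fun Y M => KFlat.commIso Y M
      hc₁ := fun g Y => KFlat.commIso_natural₂ Y g
      hc₂ := fun b M => KFlat.commIso_natural b M
      d := Eval.dataR X
      dΨ := Eval.dataR (Spec R)
      β := fun M P => restrictTensorCxIso j P M
      hβ₁ := fun M _ _ f => res_tensor_natural₁ j M f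
      hβ₂ := fun g P => res_tensor_natural₂ j g P
      a := ExtZero.adjCx j
      unit := isIso_unitCx j
      hess := fun M P => essImage_tensor j M P }
  have hmain := ctx.main J (ModRes.tCx R) I
    (fun F => ((HomCx.adj (Eval.PhiR (Spec R)) ((ModRes.tCx R).obj F)).homEquiv ((ModRes.tCx R).obj (DRing.homCx F I))
      ((ModRes.tCx R).obj I) ((tildeTensorCxIso (DRing.homCx F I) F).hom ≫ (ModRes.tCx R).map (AffineEv.ev F I))) ≫
        (HomCx.H (Eval.PhiR (Spec R)) ((ModRes.tCx R).obj F)).map g)
    (fun {F G} f => (Category.assoc _ _ _).symm.trans ((congrArg (· ≫ _) (AffineDual.α_natural I f)).trans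
      ((Category.assoc _ _ _).trans ((congrArg (_ ≫ ·) (map_m (Eval.PhiR (Spec R)) ((ModRes.tCx R).map f) g)).trans
        (Category.assoc _ _ _).symm))))
    (fun M h => acyclic_D j J M h) (fun M h => EvalMain.acyclic_H _ M h)
    (fun F => ∀ i, Module.Finite R (Dual.HD R (DRing.toD F) i)) (fun F hF => (hgood F hF).1)
    (fun p i => finite_single p i)
    (fun F hF => by
      haveI := AffineDual.quasiIso_α I hI F hF
      haveI := hg
      haveI := quasiIso_map_of_kinj (Eval.dataR (Spec R)) g ((ModRes.tCx R).obj F)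
      infer_instance)
    (fun F hF => by
      haveI := (hgood F hF).2
      exact HomologicalComplex.quasiIso_map_of_preservesHomology (BidualCx.ev I F) (tilde.functor R))
    (tilde.functor R) (fun n => (hT n).some) (AffineDual.isEquivalence_Phi (R := R))
    (fun {M M'} g hg => by
      haveI : QuasiIso (((Eval.PhiR (Spec R)).map g).app (RHom.O0 (Spec R))) := by
        haveI := hg
        exact quasiIso_of_natIso_id (RHom.flipIso (RHom.O0 (Spec R)) ≪≫ RHom.unitCxIso) g
      exact quasiIso_app ((Eval.PhiR (Spec R)).map g) i₀)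
    (fun p => nonempty_single_shift (B := (Spec R).Modules) (tilde.functor R) (ModRes.tCx R) rfl _ p)
    (K := K) hK s₁ s₂
  refine ⟨hmain.1, fun i => ?_⟩
  obtain ⟨e⟩ := hmain.2 i
  haveI : Module.Finite R ((DRing.homCx K I).homology i) :=
    haveI : Module.Finite R ((DerivedCategory.Q ⋙ DerivedCategory.homologyFunctor (ModuleCat.{u} R) i).obj
        (DRing.homCx K I)) := (hgood K hK).1 i
    Module.Finite.equiv ((DerivedCategory.homologyFunctorFactors (ModuleCat.{u} R) i).app (DRing.homCx K I)).toLinearEquiv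
  let e' : DCoh.HD ((DCoh.restrictD j).obj (DCoh.toD X (D (Eval.PhiR X) J L))) i ≅
      tilde ((DRing.homCx K I).homology i) :=
    (DerivedCategory.homologyFunctor _ i).mapIso (fac.app _) ≪≫
      (DerivedCategory.homologyFunctorFactors (Spec R).Modules i).app _ ≪≫ e ≪≫ (hT i).some.app _
  exact Groth.L16.CohKernel.isCoh_of_tilde_charts _ fun x =>
    ⟨R, 𝟙 _, inferInstance, _, ⟨x, rfl⟩, inferInstance,
      ⟨(Scheme.Modules.restrictFunctorId).app _ ≪≫ e'⟩⟩

end Groth.L29.BidualSch
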