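import Groth.Agent.L29.BidualSch.Chart
import Groth.Agent.L29.DCoh.EvalMain
import Groth.Agent.L29.Dual.SchLocus

/-!
Biduality with respect to a dualizing complex on a locally Noetherian scheme.
-/

set_option autoImplicit false
set_option backward.defeqAttrib.useBackward true
set_option backward.isDefEq.respectTransparency false
set_option backward.isDefEq.respectTransparency.types false
set_option linter.style.haveILetI false

universe u

open CategoryTheory CategoryTheory.Limits AlgebraicGeometry CochainComplex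

attribute [local instance] HasDerivedCategory.standard

namespace Groth.L29.BidualSch

open Groth.L29.DC Groth.L00

variable {X : Scheme.{u}}

theorem isCoh_of_charts {M : X.Modules}
    (h : ∀ x : X, ∃ (R : CommRingCat.{u}) (j : Spec R ⟶ X) (_ : IsOpenImmersion j),
      x ∈ j.opensRange ∧ Coh.IsCoh (M.restrict j)) : Coh.IsCoh M := by
  refine Groth.L16.CohKernel.isCoh_of_tilde_charts _ fun x => ?_
  obtain ⟨R, j, hj, hx, hM⟩ := h x
  haveI : Coh.IsQCoh (M.restrict j) := hM.1
  obtain ⟨N, ⟨e⟩⟩ := Groth.L00.Local.exists_tilde_iso_restrict (𝟙 (Spec R)) (M.restrict j)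
  exact ⟨R, j, hj, N, hx, Groth.L16.CohKernel.finite_of_tilde_iso _ hM.2 (𝟙 (Spec R)) N e,
    ⟨(Scheme.Modules.restrictFunctorId.symm.app (M.restrict j)) ≪≫ e⟩⟩

theorem quasiIso_of_charts {A A' : CochainComplex X.Modules ℤ} (f : A ⟶ A')
    (h : ∀ x : X, ∃ (R : CommRingCat.{u}) (j : Spec R ⟶ X) (_ : IsOpenImmersion j),
      x ∈ j.opensRange ∧ QuasiIso ((EvalLocal.rr (ExtZero.res j)).map f)) : QuasiIso f := by
  choose R j hj hx hq using h
  refine (DerivedCategory.isIso_Q_map_iff_quasiIso _ f).1 ((EvalLocal.acyclic_cone_iff f).1 fun i => ?_)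
  rw [HomologicalComplex.exactAt_iff_isZero_homology]
  haveI := hj
  refine Groth.L21.Mod.isZero_of_restrict j (fun x => ⟨x, hx x⟩) _ fun x => ?_
  haveI := hq x
  have h1 := (HomologicalComplex.exactAt_iff_isZero_homology _ _).1
    (EvalLocal.acyclic_map_cone (R := ExtZero.res (j x)) f i)
  exact h1.of_iso (((mappingCone f).sc i).mapHomologyIso (ExtZero.res (j x))).symm

/-- coherence of the dual and biduality -/
theorem main [IsLocallyNoetherian X]
    [∀ (U : Scheme.{u}) (j : U ⟶ X) [IsOpenImmersion j], PreservesFiniteLimits (Scheme.Modules.restrictFunctor j)]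
    [∀ (R : CommRingCat.{u}), PreservesFiniteLimits (tilde.functor R)] {K : DCoh.D X}
    (hK : Dual2.IsDualizingSch X K) (J : CochainComplex X.Modules ℤ) [J.IsKInjective]
    (eJ : DCoh.toD X J ≅ K) (L : CochainComplex X.Modules ℤ) (hL : DCoh.IsCohD (DCoh.toD X L)) :
    DCoh.IsCohD (DCoh.toD X (D (Eval.PhiR X) J L)) ∧
      QuasiIso (η (Eval.PhiR X) (fun Y M => KFlat.commIso Y M) J L) := by
  have key : ∀ x : X, ∃ (R : CommRingCat.{u}) (_ : IsNoetherianRing R) (j : Spec R ⟶ X) (_ : IsOpenImmersion j),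
      x ∈ j.opensRange ∧ P (Φ := Eval.PhiR X) (fun Y M => KFlat.commIso Y M) J (ExtZero.res j) L ∧
        DCoh.IsCohD ((DCoh.restrictD j).obj (DCoh.toD X (D (Eval.PhiR X) J L))) := fun x => by
    obtain ⟨_, ⟨U, hU, rfl⟩, hxU, -⟩ :=
      X.isBasis_affineOpens.exists_subset_of_mem_open (Set.mem_univ x) isOpen_univ
    obtain ⟨ω, hω, ⟨e⟩⟩ := hK Γ(X, U) hU.fromSpec
    haveI : IsNoetherianRing Γ(X, U) := IsLocallyNoetherian.component_noetherian ⟨U, hU⟩
    refine ⟨Γ(X, U), inferInstance, hU.fromSpec, inferInstance, hU.opensRange_fromSpec.ge hxU, ?_⟩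
    exact chart hU.fromSpec J ω hω ((DCoh.restrictD hU.fromSpec).mapIso eJ ≪≫ e) L fun i =>
      Groth.L16.CohSupport.isCoh_of_iso (HDResIso hU.fromSpec _ i).symm (RHomC.isCoh_restrict _ (hL i))
  refine ⟨fun i => isCoh_of_charts fun x => ?_, quasiIso_of_charts _ fun x => ?_⟩
  · obtain ⟨R, hR, j, hj, hx, -, hc⟩ := key x
    exact ⟨R, j, hj, hx, Groth.L16.CohSupport.isCoh_of_iso (HDResIso j _ i) (hc i)⟩
  · obtain ⟨R, -, j, hj, hx, hp, -⟩ := key x
    exact ⟨R, j, hj, hx, hp⟩

end Groth.L29.BidualSch
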