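import Groth.Agent.L29.DCoh.EvalLocal

/-!
Biduality maps into a K-injective complex for an abstract symmetric tensor bifunctor of complexes, and their
transport along a restriction functor with a fully faithful left adjoint.
-/

set_option autoImplicit false
set_option backward.defeqAttrib.useBackward true
set_option backward.isDefEq.respectTransparency false
set_option backward.isDefEq.respectTransparency.types false

universe w v u v' u'

open CategoryTheory CategoryTheory.Limits CochainComplex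

namespace Groth.L29.BidualSch

open Groth.L29.DC

section Transport

variable {C : Type u} [Category.{v} C] {B : Type u'} [Category.{v'} B] {e : B ⥤ C} {r : C ⥤ B} (a : e ⊣ r)
  [IsIso a.unit]

theorem isIso_counit_of_essImage {Z : C} (hZ : e.essImage Z) : IsIso (a.counit.app Z) := by
  haveI : IsIso (a.counit.app (e.obj hZ.witness)) := by
    haveI : IsIso (e.map (a.unit.app hZ.witness) ≫ a.counit.app (e.obj hZ.witness)) := by
      erw [a.left_triangle_components]; infer_instance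
    exact IsIso.of_isIso_comp_left (e.map (a.unit.app hZ.witness)) _
  have h : a.counit.app Z = e.map (r.map hZ.getIso.inv) ≫ a.counit.app _ ≫ hZ.getIso.hom := by
    rw [a.counit_naturality_assoc, Iso.inv_hom_id, Category.comp_id]
  rw [h]
  infer_instance

include a in
theorem bijective_map {Z : C} (hZ : e.essImage Z) (J : C) : Function.Bijective (r.map : (Z ⟶ J) → _) := by
  haveI := isIso_counit_of_essImage a hZ
  have h : (r.map : (Z ⟶ J) → _) = (a.homEquiv (r.obj Z) J) ∘ (fun f => a.counit.app Z ≫ f) := by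
    funext f
    simp [a.homEquiv_unit]
  rw [h]
  exact (a.homEquiv _ _).bijective.comp
    ⟨fun f f' hf => (cancel_epi _).1 hf, fun f => ⟨inv (a.counit.app Z) ≫ f, by simp⟩⟩

variable {F H : C ⥤ C} (adj : F ⊣ H) {F' H' : B ⥤ B} (adj' : F' ⊣ H') (τ : r ⋙ F' ≅ F ⋙ r)

/-- restriction of an internal Hom into the internal Hom of the restrictions -/
noncomputable def ρ (J : C) : r.obj (H.obj J) ⟶ H'.obj (r.obj J) :=
  adj'.homEquiv _ _ (τ.hom.app (H.obj J) ≫ r.map (adj.counit.app J))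

theorem symm_map_comp_ρ {J Z : C} (ξ : Z ⟶ H.obj J) :
    (adj'.homEquiv _ _).symm (r.map ξ ≫ ρ adj adj' τ J) = τ.hom.app Z ≫ r.map ((adj.homEquiv _ _).symm ξ) := by
  rw [adj'.homEquiv_naturality_left_symm, ρ, Equiv.symm_apply_apply, adj.homEquiv_counit, r.map_comp]
  exact τ.hom.naturality_assoc ξ _

include a in
theorem isIso_ρ (hF : ∀ P, e.essImage (F.obj (e.obj P))) (J : C) : IsIso (ρ adj adj' τ J) := by
  have hb : ∀ P, Function.Bijective (fun ξ : P ⟶ r.obj (H.obj J) => ξ ≫ ρ adj adj' τ J) := fun P => by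
    have h : (fun ξ : P ⟶ r.obj (H.obj J) => ξ ≫ ρ adj adj' τ J) = (adj'.homEquiv _ _) ∘
        (fun g => F'.map (a.unit.app P) ≫ τ.hom.app (e.obj P) ≫ g) ∘ r.map ∘
          (fun ξ => (adj.homEquiv _ _).symm ((a.homEquiv _ _).symm ξ)) := by
      funext ξ
      apply (adj'.homEquiv _ _).symm.injective
      simp only [Function.comp_apply, Equiv.symm_apply_apply]
      conv_lhs => rw [← (a.homEquiv _ _).apply_symm_apply ξ, a.homEquiv_unit, Category.assoc]
      erw [adj'.homEquiv_naturality_left_symm, symm_map_comp_ρ]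
      exact (Equiv.symm_apply_apply _ _).symm
    rw [h]
    refine (adj'.homEquiv _ _).bijective.comp (Function.Bijective.comp ?_ ((bijective_map a (hF P) J).comp
      (((adj.homEquiv _ _).symm.bijective).comp (a.homEquiv _ _).symm.bijective)))
    exact ⟨fun f f' hf => (cancel_epi _).1 ((cancel_epi _).1 hf),
      fun f => ⟨τ.inv.app _ ≫ inv (F'.map (a.unit.app P)) ≫ f, by simp⟩⟩
  obtain ⟨g, hg⟩ := (hb _).2 (𝟙 _)
  exact ⟨g, (hb _).1 (by simp only at hg; simp [hg]), hg⟩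

variable {F₂ H₂ : C ⥤ C} (adj₂ : F₂ ⊣ H₂) {F₂' H₂' : B ⥤ B} (adj₂' : F₂' ⊣ H₂') (τ₂ : r ⋙ F₂' ≅ F₂ ⋙ r)

omit [IsIso a.unit] in
theorem map_mate_comp_ρ [Preadditive C] [Preadditive B] (θ : F ⟶ F₂) (θ' : F' ⟶ F₂')
    (hθ : ∀ Z, θ'.app (r.obj Z) ≫ τ₂.hom.app Z = τ.hom.app Z ≫ r.map (θ.app Z)) (J : C) :
    r.map (RHomExact.mate adj adj₂ θ J) ≫ ρ adj adj' τ J =
      ρ adj₂ adj₂' τ₂ J ≫ RHomExact.mate adj' adj₂' θ' (r.obj J) := by
  apply (adj'.homEquiv _ _).symm.injective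
  rw [symm_map_comp_ρ, RHomExact.mate, Equiv.symm_apply_apply, RHomExact.symm_comp_mate, ρ,
    Equiv.symm_apply_apply, r.map_comp, reassoc_of% (hθ (H₂.obj J))]

end Transport

section Biduality

variable {C : Type u} [Category.{v} C] [Abelian C]
  (Φ : CochainComplex C ℤ ⥤ CochainComplex C ℤ ⥤ CochainComplex C ℤ) [∀ X, (Φ.obj X).IsLeftAdjoint]
  (c : ∀ Y M, (Φ.obj Y).obj M ≅ (Φ.obj M).obj Y) (J : CochainComplex C ℤ)

/-- the dual -/
noncomputable abbrev D (M : CochainComplex C ℤ) : CochainComplex C ℤ := (HomCx.H Φ M).obj J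

/-- the dual on morphisms -/
noncomputable abbrev Dm {M M' : CochainComplex C ℤ} (g : M ⟶ M') : D Φ J M' ⟶ D Φ J M := HomCx.m Φ g J

/-- the biduality map -/
noncomputable def η (M : CochainComplex C ℤ) : M ⟶ D Φ J (D Φ J M) :=
  (HomCx.adj Φ (D Φ J M)).homEquiv M J ((c (D Φ J M) M).hom ≫ (HomCx.adj Φ M).counit.app J)

theorem symm_η (M : CochainComplex C ℤ) :
    ((HomCx.adj Φ (D Φ J M)).homEquiv M J).symm (η Φ c J M) =
      (c (D Φ J M) M).hom ≫ (HomCx.adj Φ M).counit.app J :=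
  Equiv.symm_apply_apply _ _

variable (hc₁ : ∀ {M M' : CochainComplex C ℤ} (g : M ⟶ M') Y,
    (Φ.obj Y).map g ≫ (c Y M').hom = (c Y M).hom ≫ (Φ.map g).app Y)
  (hc₂ : ∀ {Y Y' : CochainComplex C ℤ} (b : Y ⟶ Y') M,
    (Φ.map b).app M ≫ (c Y' M).hom = (c Y M).hom ≫ (Φ.obj M).map b)

include hc₁ hc₂ in
theorem η_natural {M M' : CochainComplex C ℤ} (g : M ⟶ M') :
    g ≫ η Φ c J M' = η Φ c J M ≫ Dm Φ J (Dm Φ J g) := by
  apply ((HomCx.adj Φ (D Φ J M')).homEquiv _ _).symm.injective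
  rw [Adjunction.homEquiv_naturality_left_symm, symm_η, HomCx.symm_comp_m, symm_η]
  rw [reassoc_of% (hc₁ g (D Φ J M')), reassoc_of% (hc₂ (Dm Φ J g) M)]
  have h2 : (Φ.obj M).map (Dm Φ J g) ≫ (HomCx.adj Φ M).counit.app J =
      (Φ.map g).app (D Φ J M') ≫ (HomCx.adj Φ M').counit.app J :=
    ((HomCx.adj Φ M).homEquiv_counit _ _ _).symm.trans (HomCx.symm_m Φ g J)
  rw [h2]

variable {Φ} (d : HomCx.Data Φ) [J.IsKInjective]

include d in
/-- internal Hom is homotopy invariant in the second variable -/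
theorem quasiIso_map_of_kinj {I I' : CochainComplex C ℤ} [I.IsKInjective] [I'.IsKInjective] (g : I ⟶ I')
    [QuasiIso g] (M : CochainComplex C ℤ) : QuasiIso ((HomCx.H Φ M).map g) := by
  haveI := HasDerivedCategory.standard C
  haveI := d.additive M
  haveI : (HomCx.H Φ M).Additive := (HomCx.adj Φ M).right_adjoint_additive
  haveI := (DerivedCategory.isIso_Q_map_iff_quasiIso _ g).2 inferInstance
  obtain ⟨h, hh⟩ := DerAdj.exists_Q_map (I := I) (inv (DerivedCategory.Q.map g))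
  have key : ∀ {P P' : CochainComplex C ℤ} [P'.IsKInjective] (p q : P ⟶ P'),
      DerivedCategory.Q.map p = DerivedCategory.Q.map q →
        DerivedCategory.Q.map ((HomCx.H Φ M).map p) = DerivedCategory.Q.map ((HomCx.H Φ M).map q) :=
    fun {P P'} _ p q hpq => by
      obtain ⟨t⟩ := DerAdj.homotopic_of_Q_map_eq (I := P') hpq
      obtain ⟨t'⟩ := DerRight.null_of_null (HomCx.adj Φ M) (d.retractObj M) ((HomCx.H Φ M).map (p - q))
        (by
          erw [Adjunction.counit_naturality]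
          exact ((Homotopy.equivSubZero t).compLeft _).trans (Homotopy.ofEq comp_zero))
      rw [Functor.map_sub] at t'
      exact DerivedCategory.Q_map_eq_of_homotopy C (Homotopy.equivSubZero.symm t')
  have h1 := key (g ≫ h) (𝟙 I) (by rw [Functor.map_comp, hh, IsIso.hom_inv_id, CategoryTheory.Functor.map_id])
  have h2 := key (h ≫ g) (𝟙 I') (by rw [Functor.map_comp, hh, IsIso.inv_hom_id, CategoryTheory.Functor.map_id])
  simp only [Functor.map_comp, CategoryTheory.Functor.map_id] at h1 h2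
  exact (DerivedCategory.isIso_Q_map_iff_quasiIso _ _).1 ⟨DerivedCategory.Q.map ((HomCx.H Φ M).map h), h1, h2⟩

variable {B : Type u'} [Category.{v'} B] [Abelian B] [HasDerivedCategory.{w} B] (R : C ⥤ B) [R.Additive]
  [PreservesFiniteLimits R] [PreservesFiniteColimits R]
  (hac : ∀ M : CochainComplex C ℤ, ((EvalLocal.rr R).obj M).Acyclic → ((EvalLocal.rr R).obj (D Φ J M)).Acyclic)

include d hac in
/-- internal Hom is invariant under local quasi-isomorphisms in the first variable -/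
theorem quasiIso_Dm {M M' : CochainComplex C ℤ} (g : M ⟶ M') [QuasiIso ((EvalLocal.rr R).map g)] :
    QuasiIso ((EvalLocal.rr R).map (Dm Φ J g)) := by
  let S₁ := mappingCone.triangleRotateShortComplex (𝟙 M)
  let S₂ := mappingCone.triangleRotateShortComplex g
  let k := mappingCone.map (𝟙 M) g (𝟙 M) g rfl
  let φ : S₁ ⟶ S₂ :=
    { τ₁ := g
      τ₂ := k
      τ₃ := 𝟙 _
      comm₁₂ := ((mappingCone.triangleMap (𝟙 M) g (𝟙 M) g rfl).comm₂).symm
      comm₂₃ := ((mappingCone.triangleMap (𝟙 M) g (𝟙 M) g rfl).comm₃).symm.trans (by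
        change _ ≫ (CategoryTheory.shiftFunctor (CochainComplex C ℤ) (1 : ℤ)).map (𝟙 M) = _
        rw [CategoryTheory.Functor.map_id]
        rfl) }
  let σ₁ := HomCx.homSplit d S₁ (mappingCone.triangleRotateShortComplexSplitting (𝟙 M)) J
  let σ₂ := HomCx.homSplit d S₂ (mappingCone.triangleRotateShortComplexSplitting g) J
  let ψ : HomCx.homSC d S₂ J ⟶ HomCx.homSC d S₁ J :=
    { τ₁ := Dm Φ J φ.τ₃
      τ₂ := Dm Φ J φ.τ₂
      τ₃ := Dm Φ J φ.τ₁
      comm₁₂ := by
        change HomCx.m Φ φ.τ₃ J ≫ HomCx.m Φ S₁.g J = HomCx.m Φ S₂.g J ≫ HomCx.m Φ φ.τ₂ J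
        rw [HomCx.m, HomCx.m, HomCx.m, HomCx.m, EvalAbs.mate_comp, EvalAbs.mate_comp, ← Φ.map_comp, ← Φ.map_comp,
          φ.comm₂₃]
      comm₂₃ := by
        change HomCx.m Φ φ.τ₂ J ≫ HomCx.m Φ S₁.f J = HomCx.m Φ S₂.f J ≫ HomCx.m Φ φ.τ₁ J
        rw [HomCx.m, HomCx.m, HomCx.m, HomCx.m, EvalAbs.mate_comp, EvalAbs.mate_comp, ← Φ.map_comp, ← Φ.map_comp,
          φ.comm₁₂] }
  haveI : QuasiIso ((EvalLocal.rr R).map (𝟙 M)) := by rw [CategoryTheory.Functor.map_id]; infer_instance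
  have h := EvalLocal.isIso_tri
    ((HomologicalComplex.shortExact_of_degreewise_shortExact _ fun n => (σ₂ n).shortExact).map_of_exact (EvalLocal.rr R))
    ((HomologicalComplex.shortExact_of_degreewise_shortExact _ fun n => (σ₁ n).shortExact).map_of_exact (EvalLocal.rr R))
    ((EvalLocal.rr R).mapShortComplex.map ψ)
  refine (DerivedCategory.isIso_Q_map_iff_quasiIso _ _).1 (h.1 ?_ ?_)
  · change IsIso (DerivedCategory.Q.map ((EvalLocal.rr R).map (HomCx.m Φ (𝟙 _) J)))
    rw [HomCx.m, CategoryTheory.Functor.map_id, EvalAbs.mate_id, CategoryTheory.Functor.map_id,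
      CategoryTheory.Functor.map_id]
    infer_instance
  · exact (EvalLocal.isZero_Q_of_acyclic (hac _ (EvalLocal.acyclic_map_cone g))).isIso
      (EvalLocal.isZero_Q_of_acyclic (hac _ (EvalLocal.acyclic_map_cone (𝟙 M)))) _

/-- the biduality map is locally a quasi-isomorphism -/
def P (M : CochainComplex C ℤ) : Prop := QuasiIso ((EvalLocal.rr R).map (η Φ c J M))

include d hac hc₁ hc₂ in
theorem P_iff {M M' : CochainComplex C ℤ} (g : M ⟶ M') [QuasiIso ((EvalLocal.rr R).map g)] :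
    P c J R M ↔ P c J R M' := by
  haveI := quasiIso_Dm J d R hac g
  haveI := quasiIso_Dm J d R hac (Dm Φ J g)
  have h := congrArg ((EvalLocal.rr R).map ·) (η_natural Φ c J hc₁ hc₂ g)
  simp only [Functor.map_comp] at h
  constructor
  · intro hp
    haveI : QuasiIso ((EvalLocal.rr R).map (η Φ c J M)) := hp
    have h' : QuasiIso ((EvalLocal.rr R).map g ≫ (EvalLocal.rr R).map (η Φ c J M')) := by
      rw [h]; infer_instance
    exact quasiIso_of_comp_left ((EvalLocal.rr R).map g) _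
  · intro hp
    haveI : QuasiIso ((EvalLocal.rr R).map (η Φ c J M')) := hp
    have h' : QuasiIso ((EvalLocal.rr R).map (η Φ c J M) ≫ (EvalLocal.rr R).map (Dm Φ J (Dm Φ J g))) := by
      rw [← h]; infer_instance
    exact quasiIso_of_comp_right _ ((EvalLocal.rr R).map (Dm Φ J (Dm Φ J g)))

include d hac hc₁ hc₂ in
theorem P_shift (M : CochainComplex C ℤ) : P c J R M ↔ P c J R (M⟦(1 : ℤ)⟧) := by
  let S := mappingCone.triangleRotateShortComplex (𝟙 M)
  let σ := mappingCone.triangleRotateShortComplexSplitting (𝟙 M)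
  let S' := HomCx.homSC d S J
  let τ := HomCx.homSplit d S σ J
  let τ' := HomCx.homSplit d S' τ J
  let φ : S ⟶ HomCx.homSC d S' J :=
    { τ₁ := η Φ c J S.X₁
      τ₂ := η Φ c J S.X₂
      τ₃ := η Φ c J S.X₃
      comm₁₂ := (η_natural Φ c J hc₁ hc₂ S.f).symm
      comm₂₃ := (η_natural Φ c J hc₁ hc₂ S.g).symm }
  have h := EvalLocal.isIso_tri
    ((HomologicalComplex.shortExact_of_degreewise_shortExact _ fun n => (σ n).shortExact).map_of_exact (EvalLocal.rr R))
    ((HomologicalComplex.shortExact_of_degreewise_shortExact _ fun n => (τ' n).shortExact).map_of_exact (EvalLocal.rr R))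
    ((EvalLocal.rr R).mapShortComplex.map φ)
  haveI : QuasiIso ((EvalLocal.rr R).map (𝟙 M)) := by rw [CategoryTheory.Functor.map_id]; infer_instance
  have hc := EvalLocal.acyclic_map_cone (R := R) (𝟙 M)
  have h2 : IsIso (DerivedCategory.Q.map ((EvalLocal.rr R).map (η Φ c J S.X₂))) :=
    (EvalLocal.isZero_Q_of_acyclic hc).isIso (EvalLocal.isZero_Q_of_acyclic (hac _ (hac _ hc))) _
  simp only [P, ← DerivedCategory.isIso_Q_map_iff_quasiIso]
  exact ⟨fun h1 => h.1 h1 h2, fun h3 => h.2.2 h2 h3⟩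

include d hac hc₁ hc₂ in
theorem P_shift_int (M : CochainComplex C ℤ) (n : ℤ) : P c J R (M⟦n⟧) ↔ P c J R M := by
  have hiso : ∀ {K K' : CochainComplex C ℤ}, (K ≅ K') → (P c J R K ↔ P c J R K') := fun i =>
    P_iff c J hc₁ hc₂ d R hac i.hom
  induction n using Int.induction_on with
  | zero => exact hiso ((shiftFunctorZero _ ℤ).app M)
  | succ m ih =>
    exact (hiso ((CategoryTheory.shiftFunctorAdd' _ (m : ℤ) 1 _ rfl).app M)).trans
      ((P_shift c J hc₁ hc₂ d R hac (M⟦(m : ℤ)⟧)).symm.trans ih)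
  | pred m ih =>
    exact ((P_shift c J hc₁ hc₂ d R hac (M⟦(-(m : ℤ) - 1)⟧)).trans
      (hiso ((CategoryTheory.shiftFunctorAdd' _ (-(m : ℤ) - 1) 1 _ (by omega)).app M).symm)).trans ih

end Biduality

end Groth.L29.BidualSch

namespace Groth.L29.BidualSch

open Groth.L29.DC

section Dual

variable {C : Type u} [Category.{v} C] [Abelian C]
  (Φ : CochainComplex C ℤ ⥤ CochainComplex C ℤ ⥤ CochainComplex C ℤ) [∀ X, (Φ.obj X).IsLeftAdjoint]
  (J : CochainComplex C ℤ)

theorem Dm_comp {X Y Z : CochainComplex C ℤ} (f : X ⟶ Y) (g : Y ⟶ Z) :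
    Dm Φ J (f ≫ g) = Dm Φ J g ≫ Dm Φ J f := by
  change HomCx.m Φ (f ≫ g) J = HomCx.m Φ g J ≫ HomCx.m Φ f J
  rw [HomCx.m, HomCx.m, HomCx.m, EvalAbs.mate_comp, ← Φ.map_comp]

theorem Dm_id (X : CochainComplex C ℤ) : Dm Φ J (𝟙 X) = 𝟙 _ := by
  change HomCx.m Φ (𝟙 X) J = _
  rw [HomCx.m, CategoryTheory.Functor.map_id, EvalAbs.mate_id]

theorem isIso_Dm {X Y : CochainComplex C ℤ} (f : X ⟶ Y) [IsIso f] : IsIso (Dm Φ J f) :=
  ⟨Dm Φ J (inv f), by rw [← Dm_comp, IsIso.inv_hom_id, Dm_id], by rw [← Dm_comp, IsIso.hom_inv_id, Dm_id]⟩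

theorem quasiIso_Dm' {Φ : CochainComplex C ℤ ⥤ CochainComplex C ℤ ⥤ CochainComplex C ℤ}
    [∀ X, (Φ.obj X).IsLeftAdjoint] (d : HomCx.Data Φ) [J.IsKInjective]
    (hac : ∀ M : CochainComplex C ℤ, M.Acyclic → (D Φ J M).Acyclic) {M M' : CochainComplex C ℤ} (g : M ⟶ M')
    [hg : QuasiIso g] : QuasiIso (Dm Φ J g) := by
  haveI := HasDerivedCategory.standard C
  have hm : ∀ {P Q : CochainComplex C ℤ} (t : P ⟶ Q), (EvalLocal.rr (𝟭 C)).map t = t := fun t =>
    HomologicalComplex.hom_ext _ _ fun n => rfl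
  haveI : QuasiIso ((EvalLocal.rr (𝟭 C)).map g) := by rw [hm]; exact hg
  have h := quasiIso_Dm (Φ := Φ) J d (𝟭 C) hac g
  rw [hm] at h
  exact h

end Dual

end Groth.L29.BidualSch
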