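import Mathlib.Algebra.Category.ModuleCat.Abelian
import Mathlib.Algebra.Homology.HomologicalComplexAbelian
import Mathlib.Algebra.Homology.SingleHomology
import Mathlib.Algebra.Homology.ConcreteCategory

/-!
Natural endomorphisms of a cohomology functor are detected on a shifted copy of the ring.
-/

set_option autoImplicit false
set_option backward.defeqAttrib.useBackward true
set_option backward.isDefEq.respectTransparency false

universe v u u'

open CategoryTheory CategoryTheory.Limits HomologicalComplex

namespace Groth.L29.BidualSch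

variable {A : Type u} [CommRing A]

/-- every cohomology class comes from a shifted copy of the ring -/
theorem exists_class (K : CochainComplex (ModuleCat.{u} A) ℤ) (n : ℤ) (x : K.homology n) :
    ∃ (f : (single (ModuleCat.{u} A) (ComplexShape.up ℤ) n).obj (ModuleCat.of A A) ⟶ K) (s : ((single (ModuleCat.{u} A) (ComplexShape.up ℤ) n).obj (ModuleCat.of A A)).homology n),
      homologyMap f n s = x := by
  let S := (single (ModuleCat.{u} A) (ComplexShape.up ℤ) n).obj (ModuleCat.of A A)
  obtain ⟨z, rfl⟩ := (ModuleCat.epi_iff_surjective (K.homologyπ n)).1 inferInstance x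
  let k : ModuleCat.of A A ⟶ K.X n := ModuleCat.ofHom (LinearMap.toSpanSingleton A _ (K.iCycles n z))
  have hk : ∀ j, (ComplexShape.up ℤ).Rel n j → k ≫ K.d n j = 0 := fun j _ => by
    refine ModuleCat.hom_ext (LinearMap.ext_ring ?_)
    have h := ConcreteCategory.congr_hom (K.iCycles_d n j) z
    simp only [k, ModuleCat.hom_comp, LinearMap.comp_apply, ModuleCat.hom_ofHom, LinearMap.toSpanSingleton_apply, one_smul]
    exact h
  let f : S ⟶ K := mkHomFromSingle k hk
  haveI : IsIso (S.iCycles n) := S.isIso_iCycles n _ rfl (by simp [S])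
  let g : S.X n := (singleObjXSelf (ComplexShape.up ℤ) n (ModuleCat.of A A)).inv (1 : A)
  let s₀ : S.cycles n := inv (S.iCycles n) g
  refine ⟨f, S.homologyπ n s₀, ?_⟩
  have h1 : cyclesMap f n s₀ = z := by
    refine (ModuleCat.mono_iff_injective (K.iCycles n)).1 inferInstance ?_
    have h2 := ConcreteCategory.congr_hom (cyclesMap_i f n) s₀
    simp only [ConcreteCategory.comp_apply] at h2
    rw [h2]
    have h3 : S.iCycles n s₀ = g := ConcreteCategory.congr_hom (IsIso.inv_hom_id (S.iCycles n)) g
    rw [h3]
    have h4 := ConcreteCategory.congr_hom (mkHomFromSingle_f k hk) g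
    rw [h4]
    have h5 : (singleObjXSelf (ComplexShape.up ℤ) n (ModuleCat.of A A)).hom g = (1 : A) :=
      ConcreteCategory.congr_hom (singleObjXSelf (ComplexShape.up ℤ) n (ModuleCat.of A A)).inv_hom_id (1 : A)
    change k ((singleObjXSelf (ComplexShape.up ℤ) n (ModuleCat.of A A)).hom g) = _
    rw [h5]
    simp [k]
  have h6 := ConcreteCategory.congr_hom (homologyπ_naturality f n) s₀
  simp only [ConcreteCategory.comp_apply] at h6
  rw [h6, h1]

variable {B : Type u'} [Category.{v} B] (T : ModuleCat.{u} A ⥤ B) [T.Full] [T.Faithful]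

/-- natural endomorphisms of a cohomology functor are invertible when they are so on a shifted copy of the ring -/
theorem isIso_of_endo (n : ℤ) (Q : CochainComplex (ModuleCat.{u} A) ℤ → Prop)
    (hQ : Q ((single (ModuleCat.{u} A) (ComplexShape.up ℤ) n).obj (ModuleCat.of A A)))
    (z : ∀ L, Q L → (T.obj (L.homology n) ⟶ T.obj (L.homology n)))
    (hz : ∀ {L L' : CochainComplex (ModuleCat.{u} A) ℤ} (f : L ⟶ L') (h : Q L) (h' : Q L'),
      T.map (homologyMap f n) ≫ z L' h' = z L h ≫ T.map (homologyMap f n))
    [IsIso (z _ hQ)] (K : CochainComplex (ModuleCat.{u} A) ℤ) (hK : Q K) : IsIso (z K hK) := by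
  let S := (single (ModuleCat.{u} A) (ComplexShape.up ℤ) n).obj (ModuleCat.of A A)
  let w : ∀ L, Q L → (L.homology n ⟶ L.homology n) := fun L h => T.preimage (z L h)
  have hw : ∀ {L L' : CochainComplex (ModuleCat.{u} A) ℤ} (f : L ⟶ L') (h : Q L) (h' : Q L'),
      homologyMap f n ≫ w L' h' = w L h ≫ homologyMap f n := fun f h h' => T.map_injective (by
    rw [T.map_comp, T.map_comp, T.map_preimage, T.map_preimage]
    exact hz f h h')
  suffices IsIso (w K hK) by
    have h : z K hK = T.map (w K hK) := (T.map_preimage _).symm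
    rw [h]; infer_instance
  haveI : IsIso (w S hQ) := by
    haveI : IsIso (T.map (w S hQ)) := by rw [T.map_preimage]; infer_instance
    exact isIso_of_reflects_iso (w S hQ) T
  let e : S.homology n ≃ₗ[A] A := (singleObjHomologySelfIso (ComplexShape.up ℤ) n (ModuleCat.of A A)).toLinearEquiv
  let r : A := e (w S hQ (e.symm 1))
  have hr : ∀ s, w S hQ s = r • s := fun s => by
    have h1 : s = e s • e.symm 1 := e.injective (by simp)
    refine e.injective ?_
    rw [map_smul]
    conv_lhs => rw [h1, map_smul, map_smul]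
    simp [r, mul_comm]
  rw [ConcreteCategory.isIso_iff_bijective]
  have hrK : ∀ x, w K hK x = r • x := fun x => by
    obtain ⟨f, s, rfl⟩ := exists_class K n x
    have h := ConcreteCategory.congr_hom (hw f hQ hK) s
    simp only [ConcreteCategory.comp_apply] at h
    rw [h, hr]
    exact map_smul (homologyMap f n).hom r s
  obtain ⟨t, ht⟩ := ((ConcreteCategory.isIso_iff_bijective (w S hQ)).1 inferInstance).2 (e.symm 1)
  rw [hr] at ht
  have hu : r * e t = 1 := by
    have h := congrArg e ht
    simpa using h
  refine ⟨fun x y h => ?_, fun x => ⟨e t • x, ?_⟩⟩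
  · rw [hrK, hrK] at h
    have h' := congrArg (fun y => e t • y) h
    simpa [smul_smul, mul_comm (e t) r, hu] using h'
  · rw [hrK, smul_smul, hu, one_smul]

/-- a split monomorphism between copies of the ring is invertible -/
theorem isIso_of_isSplitMono {X Y : B} (f : X ⟶ Y) [IsSplitMono f] (eX : T.obj (ModuleCat.of A A) ≅ X)
    (eY : T.obj (ModuleCat.of A A) ≅ Y) : IsIso f := by
  let u := T.preimage (eX.hom ≫ f ≫ eY.inv)
  let v := T.preimage (eY.hom ≫ retraction f ≫ eX.inv)
  have huv : u ≫ v = 𝟙 _ := T.map_injective (by simp [u, v])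
  have key : ∀ (g : ModuleCat.of A A ⟶ ModuleCat.of A A) (x : A), (g x : A) = x * (g (1 : A) : A) := fun g x => by
    calc (g x : A) = g (x • (1 : A)) := by rw [smul_eq_mul, mul_one]
      _ = x • (g (1 : A) : A) := map_smul g.hom x (1 : A)
  have hvu : v ≫ u = 𝟙 _ := by
    ext
    have h := ConcreteCategory.congr_hom huv (1 : A)
    simp only [ConcreteCategory.comp_apply, ConcreteCategory.id_apply] at h ⊢
    rw [key u (v (1 : A))]
    rw [key v (u (1 : A))] at h
    rw [mul_comm]
    exact h
  haveI : IsIso u := ⟨v, huv, hvu⟩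
  have h : f = eX.inv ≫ T.map u ≫ eY.hom := by simp [u]
  rw [h]; infer_instance

end Groth.L29.BidualSch
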