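import Groth.Agent.L29.BidualSch.Abstract
import Groth.Agent.L29.BidualSch.Endo
import Groth.Agent.L29.Dual.BidualDev

/-!
Biduality on a scheme from biduality on an affine chart, for abstract categories of sheaves.
-/

set_option autoImplicit false
set_option backward.defeqAttrib.useBackward true
set_option backward.isDefEq.respectTransparency false
set_option backward.isDefEq.respectTransparency.types false
set_option linter.style.haveILetI false

universe w v v' u' u'' u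

open CategoryTheory CategoryTheory.Limits CochainComplex

attribute [local instance] HasDerivedCategory.standard

namespace Groth.L29.BidualSch

open Groth.L29.DC

/-- a tensor bifunctor with a restriction functor compatible with it -/
structure Ctx {C : Type u'} [Category.{v} C] [Abelian C] {B : Type u''} [Category.{v'} B] [Abelian B]
    (Φ : CochainComplex C ℤ ⥤ CochainComplex C ℤ ⥤ CochainComplex C ℤ) [∀ X, (Φ.obj X).IsLeftAdjoint]
    (Ψ : CochainComplex B ℤ ⥤ CochainComplex B ℤ ⥤ CochainComplex B ℤ) [∀ X, (Ψ.obj X).IsLeftAdjoint]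
    (e : CochainComplex B ℤ ⥤ CochainComplex C ℤ) (r : CochainComplex C ℤ ⥤ CochainComplex B ℤ) where
  c : ∀ Y M, (Φ.obj Y).obj M ≅ (Φ.obj M).obj Y
  hc₁ : ∀ {M M' : CochainComplex C ℤ} (g : M ⟶ M') Y,
    (Φ.obj Y).map g ≫ (c Y M').hom = (c Y M).hom ≫ (Φ.map g).app Y
  hc₂ : ∀ {Y Y' : CochainComplex C ℤ} (b : Y ⟶ Y') M,
    (Φ.map b).app M ≫ (c Y' M).hom = (c Y M).hom ≫ (Φ.obj M).map b
  d : HomCx.Data Φ
  dΨ : HomCx.Data Ψ
  β : ∀ M P, (Ψ.obj (r.obj M)).obj (r.obj P) ≅ r.obj ((Φ.obj M).obj P)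
  hβ₁ : ∀ M {P Q : CochainComplex C ℤ} (f : P ⟶ Q),
    (Ψ.obj (r.obj M)).map (r.map f) ≫ (β M Q).hom = (β M P).hom ≫ r.map ((Φ.obj M).map f)
  hβ₂ : ∀ {M M' : CochainComplex C ℤ} (g : M ⟶ M') P,
    (Ψ.map (r.map g)).app (r.obj P) ≫ (β M' P).hom = (β M P).hom ≫ r.map ((Φ.map g).app P)
  a : e ⊣ r
  unit : IsIso a.unit
  hess : ∀ M P, e.essImage ((Φ.obj M).obj (e.obj P))

section

variable {C : Type u'} [Category.{v} C] [Abelian C] {B : Type u''} [Category.{v'} B] [Abelian B]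
  {Φ : CochainComplex C ℤ ⥤ CochainComplex C ℤ ⥤ CochainComplex C ℤ} [∀ X, (Φ.obj X).IsLeftAdjoint]
  {Ψ : CochainComplex B ℤ ⥤ CochainComplex B ℤ ⥤ CochainComplex B ℤ} [∀ X, (Ψ.obj X).IsLeftAdjoint]
  {e : CochainComplex B ℤ ⥤ CochainComplex C ℤ} {R : C ⥤ B} [R.Additive] [PreservesFiniteLimits R]
  [PreservesFiniteColimits R] (X : Ctx Φ Ψ e (EvalLocal.rr R)) (J : CochainComplex C ℤ)

/-- tensor products commute with restriction -/
noncomputable def Ctx.τ (M : CochainComplex C ℤ) :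
    EvalLocal.rr R ⋙ Ψ.obj ((EvalLocal.rr R).obj M) ≅ Φ.obj M ⋙ EvalLocal.rr R :=
  NatIso.ofComponents (X.β M) (X.hβ₁ M)

/-- restriction of the dual -/
noncomputable def Ctx.res (M : CochainComplex C ℤ) :
    (EvalLocal.rr R).obj (D Φ J M) ⟶ D Ψ ((EvalLocal.rr R).obj J) ((EvalLocal.rr R).obj M) :=
  ρ (HomCx.adj Φ M) (HomCx.adj Ψ ((EvalLocal.rr R).obj M)) (X.τ M) J

theorem Ctx.isIso_res (M : CochainComplex C ℤ) : IsIso (X.res J M) :=
  haveI := X.unit
  isIso_ρ X.a _ _ _ (X.hess M) J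

theorem Ctx.res_natural {M M' : CochainComplex C ℤ} (g : M ⟶ M') :
    (EvalLocal.rr R).map (Dm Φ J g) ≫ X.res J M =
      X.res J M' ≫ Dm Ψ ((EvalLocal.rr R).obj J) ((EvalLocal.rr R).map g) :=
  map_mate_comp_ρ _ _ _ _ _ _ (Φ.map g) (Ψ.map ((EvalLocal.rr R).map g)) (fun P => X.hβ₂ g P) J

variable {A : Type u} [CommRing A] (tc : CochainComplex (ModuleCat.{u} A) ℤ ⥤ CochainComplex B ℤ) (I : DRing.Cx A)
  (γ : ∀ L : DRing.Cx A, tc.obj (DRing.homCx L I) ⟶ D Ψ ((EvalLocal.rr R).obj J) (tc.obj L))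

/-- the unit on a chart -/
noncomputable abbrev Ctx.u (L : DRing.Cx A) : tc.obj L ⟶ (EvalLocal.rr R).obj (e.obj (tc.obj L)) :=
  X.a.unit.app (tc.obj L)

/-- the algebraic dual computes the dual on the chart -/
noncomputable def Ctx.q (L : DRing.Cx A) : tc.obj (DRing.homCx L I) ⟶ (EvalLocal.rr R).obj (D Φ J (e.obj (tc.obj L))) :=
  haveI := X.unit
  haveI := X.isIso_res J (e.obj (tc.obj L))
  γ L ≫ Dm Ψ ((EvalLocal.rr R).obj J) (inv (X.u tc L)) ≫ inv (X.res J (e.obj (tc.obj L)))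

/-- the biduality map of the scheme on a chart -/
noncomputable def Ctx.f (L : DRing.Cx A) : tc.obj L ⟶ D Ψ ((EvalLocal.rr R).obj J) (tc.obj (DRing.homCx L I)) :=
  X.u tc L ≫ (EvalLocal.rr R).map (η Φ X.c J (e.obj (tc.obj L))) ≫ X.res J (D Φ J (e.obj (tc.obj L))) ≫
    Dm Ψ ((EvalLocal.rr R).obj J) (X.q J tc I γ L)

/-- the biduality map of the ring -/
noncomputable def Ctx.b (L : DRing.Cx A) : tc.obj L ⟶ D Ψ ((EvalLocal.rr R).obj J) (tc.obj (DRing.homCx L I)) :=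
  tc.map (BidualCx.ev I L) ≫ γ (DRing.homCx L I)

variable (hγn : ∀ {L L' : DRing.Cx A} (g : L ⟶ L'),
  tc.map (BidualCx.Dmap I g) ≫ γ L = γ L' ≫ Dm Ψ ((EvalLocal.rr R).obj J) (tc.map g))

include hγn in
theorem Ctx.q_natural {L L' : DRing.Cx A} (g : L ⟶ L') :
    tc.map (BidualCx.Dmap I g) ≫ X.q J tc I γ L =
      X.q J tc I γ L' ≫ (EvalLocal.rr R).map (Dm Φ J (e.map (tc.map g))) := by
  haveI := X.unit
  haveI := X.isIso_res J (e.obj (tc.obj L))
  haveI := X.isIso_res J (e.obj (tc.obj L'))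
  have h1 : inv (X.res J (e.obj (tc.obj L'))) ≫ (EvalLocal.rr R).map (Dm Φ J (e.map (tc.map g))) =
      Dm Ψ ((EvalLocal.rr R).obj J) ((EvalLocal.rr R).map (e.map (tc.map g))) ≫ inv (X.res J (e.obj (tc.obj L))) := by
    rw [IsIso.eq_comp_inv, Category.assoc, IsIso.inv_comp_eq, X.res_natural]
  have h2 : (EvalLocal.rr R).map (e.map (tc.map g)) ≫ inv (X.u tc L') = inv (X.u tc L) ≫ tc.map g := by
    rw [IsIso.comp_inv_eq, Category.assoc, IsIso.eq_inv_comp]
    exact (X.a.unit.naturality (tc.map g)).symm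
  simp only [Ctx.q, Category.assoc]
  rw [reassoc_of% (hγn g), h1, ← reassoc_of% (Dm_comp Ψ ((EvalLocal.rr R).obj J) (inv (X.u tc L)) (tc.map g)), ← h2,
    Dm_comp, Category.assoc]

include hγn in
theorem Ctx.f_natural {L L' : DRing.Cx A} (g : L ⟶ L') :
    tc.map g ≫ X.f J tc I γ L' =
      X.f J tc I γ L ≫ Dm Ψ ((EvalLocal.rr R).obj J) (tc.map (BidualCx.Dmap I g)) := by
  simp only [Ctx.f, Category.assoc]
  rw [← Dm_comp, X.q_natural J tc I γ hγn g, Dm_comp, ← reassoc_of% (X.res_natural J (Dm Φ J (e.map (tc.map g)))),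
    ← Functor.map_comp_assoc, ← η_natural Φ X.c J X.hc₁ X.hc₂, Functor.map_comp_assoc]
  exact (X.a.unit.naturality_assoc (tc.map g) _)

include hγn in
theorem Ctx.b_natural {L L' : DRing.Cx A} (g : L ⟶ L') :
    tc.map g ≫ Ctx.b J tc I γ L' =
      Ctx.b J tc I γ L ≫ Dm Ψ ((EvalLocal.rr R).obj J) (tc.map (BidualCx.Dmap I g)) := by
  simp only [Ctx.b, Category.assoc]
  rw [← tc.map_comp_assoc, BidualCx.ev_naturality, tc.map_comp_assoc]
  exact congrArg (tc.map (BidualCx.ev I L) ≫ ·) (hγn (BidualCx.Dmap I g))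

variable [J.IsKInjective] [hJ : ((EvalLocal.rr R).obj J).IsKInjective]
  (hac : ∀ M : CochainComplex C ℤ, ((EvalLocal.rr R).obj M).Acyclic → ((EvalLocal.rr R).obj (D Φ J M)).Acyclic)
  (hacΨ : ∀ M : CochainComplex B ℤ, M.Acyclic → (D Ψ ((EvalLocal.rr R).obj J) M).Acyclic)
  (Q : DRing.Cx A → Prop) (hQh : ∀ L, Q L → Q (DRing.homCx L I))
  (hγ : ∀ L, Q L → QuasiIso (γ L))
  (hev : ∀ L, Q L → QuasiIso (tc.map (BidualCx.ev I L)))

omit [J.IsKInjective] hJ in
include hγ in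
theorem Ctx.quasiIso_q (L : DRing.Cx A) (hL : Q L) : QuasiIso (X.q J tc I γ L) := by
  haveI := X.unit
  haveI := X.isIso_res J (e.obj (tc.obj L))
  haveI := hγ L hL
  haveI := isIso_Dm Ψ ((EvalLocal.rr R).obj J) (inv (X.u tc L))
  dsimp only [Ctx.q]
  infer_instance

omit [J.IsKInjective] hJ in
include hQh hγ hev in
theorem Ctx.quasiIso_b (L : DRing.Cx A) (hL : Q L) : QuasiIso (Ctx.b J tc I γ L) := by
  haveI := hev L hL
  haveI := hγ _ (hQh L hL)
  dsimp only [Ctx.b]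
  infer_instance

include hacΨ hγ in
theorem Ctx.P_iff_f (L : DRing.Cx A) (hL : Q L) :
    P X.c J R (e.obj (tc.obj L)) ↔ QuasiIso (X.f J tc I γ L) := by
  haveI := X.unit
  haveI := X.quasiIso_q J tc I γ Q hγ L hL
  haveI := quasiIso_Dm' ((EvalLocal.rr R).obj J) X.dΨ hacΨ (X.q J tc I γ L)
  haveI := X.isIso_res J (D Φ J (e.obj (tc.obj L)))
  constructor
  · intro h
    haveI : QuasiIso ((EvalLocal.rr R).map (η Φ X.c J (e.obj (tc.obj L)))) := h
    dsimp only [Ctx.f]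
    infer_instance
  · intro h
    haveI : QuasiIso (X.u tc L ≫ ((EvalLocal.rr R).map (η Φ X.c J (e.obj (tc.obj L))) ≫
      (X.res J (D Φ J (e.obj (tc.obj L))) ≫ Dm Ψ ((EvalLocal.rr R).obj J) (X.q J tc I γ L)))) := h
    haveI := quasiIso_of_comp_left (X.u tc L) ((EvalLocal.rr R).map (η Φ X.c J (e.obj (tc.obj L))) ≫
      (X.res J (D Φ J (e.obj (tc.obj L))) ≫ Dm Ψ ((EvalLocal.rr R).obj J) (X.q J tc I γ L)))
    exact quasiIso_of_comp_right _ (X.res J (D Φ J (e.obj (tc.obj L))) ≫ Dm Ψ ((EvalLocal.rr R).obj J) (X.q J tc I γ L))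

omit [J.IsKInjective] hJ in
theorem Ctx.exists_symm_f (L : DRing.Cx A) [(Ψ.obj (tc.obj L)).IsEquivalence]
    [QuasiIso (X.q J tc I γ L)]
    (hflat : ∀ {M M' : CochainComplex B ℤ} (g : M ⟶ M'), QuasiIso g → QuasiIso ((Ψ.map g).app (tc.obj L))) :
    QuasiIso (((HomCx.adj Ψ (tc.obj (DRing.homCx L I))).homEquiv _ _).symm (X.f J tc I γ L)) := by
  haveI := X.unit
  let M := e.obj (tc.obj L)
  haveI : ∀ Z, IsIso ((HomCx.adj Ψ ((EvalLocal.rr R).obj M)).counit.app Z) := by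
    haveI : (Ψ.obj ((EvalLocal.rr R).obj M)).IsEquivalence :=
      Functor.isEquivalence_of_iso (Ψ.mapIso (asIso (X.u tc L)))
    intro Z
    infer_instance
  have h1 : X.f J tc I γ L = (X.u tc L ≫ (EvalLocal.rr R).map (η Φ X.c J M) ≫ X.res J (D Φ J M)) ≫
      Dm Ψ ((EvalLocal.rr R).obj J) (X.q J tc I γ L) := by simp [Ctx.f, M]
  have h2 : (X.β M (D Φ J M)).hom ≫ (EvalLocal.rr R).map ((HomCx.adj Φ M).counit.app J) =
      (Ψ.obj ((EvalLocal.rr R).obj M)).map (X.res J M) ≫ (HomCx.adj Ψ ((EvalLocal.rr R).obj M)).counit.app _ := by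
    refine Eq.trans ?_ ((HomCx.adj Ψ ((EvalLocal.rr R).obj M)).homEquiv_counit _ _ _)
    exact (Equiv.symm_apply_apply _ _).symm
  haveI : IsIso ((EvalLocal.rr R).map ((HomCx.adj Φ M).counit.app J)) := by
    haveI := X.isIso_res J M
    haveI : IsIso ((X.β M (D Φ J M)).hom ≫ (EvalLocal.rr R).map ((HomCx.adj Φ M).counit.app J)) := by
      rw [h2]; infer_instance
    exact IsIso.of_isIso_comp_left (X.β M (D Φ J M)).hom _
  rw [h1, HomCx.symm_comp_m, Adjunction.homEquiv_naturality_left_symm]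
  erw [symm_map_comp_ρ]
  rw [symm_η, Functor.map_comp]
  haveI := hflat _ ‹QuasiIso (X.q J tc I γ L)›
  haveI : IsIso ((Ψ.obj ((EvalLocal.rr R).obj (D Φ J M))).map (X.u tc L)) := inferInstance
  haveI : IsIso ((X.τ (D Φ J M)).hom.app M) := inferInstance
  infer_instance

variable (n : ℤ)

omit [J.IsKInjective] in
theorem Ctx.exists_comp {M L : CochainComplex B ℤ} (f b : L ⟶ D Ψ ((EvalLocal.rr R).obj J) M)
    [hf : QuasiIso (((HomCx.adj Ψ M).homEquiv _ _).symm f)] (dΨ : HomCx.Data Ψ) :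
    ∃ g : D Ψ ((EvalLocal.rr R).obj J) M ⟶ D Ψ ((EvalLocal.rr R).obj J) M,
      HomologicalComplex.homologyMap f n ≫ HomologicalComplex.homologyMap g n = HomologicalComplex.homologyMap b n := by
  haveI := dΨ.additive M
  haveI : (HomCx.H Ψ M).Additive := (HomCx.adj Ψ M).right_adjoint_additive
  let w := ((HomCx.adj Ψ M).homEquiv _ _).symm f
  let w₀ := ((HomCx.adj Ψ M).homEquiv _ _).symm b
  haveI := (DerivedCategory.isIso_Q_map_iff_quasiIso _ w).2 hf
  obtain ⟨g, hg⟩ := DerAdj.exists_Q_map (I := (EvalLocal.rr R).obj J) (inv (DerivedCategory.Q.map w) ≫ DerivedCategory.Q.map w₀)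
  have hq : DerivedCategory.Q.map (w ≫ g) = DerivedCategory.Q.map w₀ := by
    rw [Functor.map_comp, hg, IsIso.hom_inv_id_assoc]
  obtain ⟨t⟩ := DerAdj.homotopic_of_Q_map_eq (I := (EvalLocal.rr R).obj J) hq
  obtain ⟨t'⟩ := DerRight.null_of_null (HomCx.adj Ψ M) (dΨ.retractObj M) (f ≫ (HomCx.H Ψ M).map g - b) (by
    refine (Homotopy.ofEq ?_).trans (Homotopy.equivSubZero t)
    simp only [w, w₀, Adjunction.homEquiv_counit, Functor.map_sub, Functor.map_comp, Preadditive.sub_comp,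
      Category.assoc]
    erw [Adjunction.counit_naturality])
  refine ⟨(HomCx.H Ψ M).map g, ?_⟩
  rw [← HomologicalComplex.homologyMap_comp]
  exact (Homotopy.equivSubZero.symm t').homologyMap_eq n

variable (T : ModuleCat.{u} A ⥤ B) [T.Full] [T.Faithful]
  (hT : tc ⋙ HomologicalComplex.homologyFunctor B (ComplexShape.up ℤ) n ≅
    HomologicalComplex.homologyFunctor (ModuleCat.{u} A) (ComplexShape.up ℤ) n ⋙ T)

include hQh hγ hev hT in
omit [J.IsKInjective] in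
/-- bijectivity in degree zero on the ring itself -/
theorem Ctx.isIso_f_zero (hn : n = 0) (hQ₀ : Q (BidualCx.rk1 (A := A) 0)) [(Ψ.obj (tc.obj (BidualCx.rk1 (A := A) 0))).IsEquivalence]
    (hflat : ∀ {M M' : CochainComplex B ℤ} (g : M ⟶ M'), QuasiIso g → QuasiIso ((Ψ.map g).app (tc.obj (BidualCx.rk1 (A := A) 0)))) :
    IsIso (HomologicalComplex.homologyMap (X.f J tc I γ (BidualCx.rk1 (A := A) 0)) n) := by
  subst hn
  haveI := X.quasiIso_q J tc I γ Q hγ _ hQ₀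
  haveI := X.exists_symm_f J tc I γ (BidualCx.rk1 (A := A) 0) hflat
  haveI := Ctx.quasiIso_b J tc I γ Q hQh hγ hev (BidualCx.rk1 (A := A) 0) hQ₀
  obtain ⟨g, hg⟩ := Ctx.exists_comp J 0 (X.f J tc I γ (BidualCx.rk1 (A := A) 0)) (Ctx.b J tc I γ (BidualCx.rk1 (A := A) 0)) X.dΨ
  haveI : IsSplitMono (HomologicalComplex.homologyMap (X.f J tc I γ (BidualCx.rk1 (A := A) 0)) 0) :=
    IsSplitMono.mk' ⟨HomologicalComplex.homologyMap g 0 ≫ inv (HomologicalComplex.homologyMap (Ctx.b J tc I γ (BidualCx.rk1 (A := A) 0)) 0),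
      by rw [reassoc_of% hg, IsIso.hom_inv_id]⟩
  let e₀ : T.obj (ModuleCat.of A A) ≅ (tc.obj (BidualCx.rk1 (A := A) 0)).homology 0 :=
    T.mapIso (HomologicalComplex.singleObjHomologySelfIso (ComplexShape.up ℤ) 0 (ModuleCat.of A A)).symm ≪≫
      (hT.app _).symm
  exact isIso_of_isSplitMono T _ e₀ (e₀ ≪≫ asIso (HomologicalComplex.homologyMap (Ctx.b J tc I γ (BidualCx.rk1 (A := A) 0)) 0))

include hQh hγ hev hT in
omit [J.IsKInjective] in
/-- bijectivity away from degree zero on the ring itself -/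
theorem Ctx.isIso_f_ne [T.Additive] (hn : n ≠ 0) (hQ₀ : Q (BidualCx.rk1 (A := A) 0)) :
    IsIso (HomologicalComplex.homologyMap (X.f J tc I γ (BidualCx.rk1 (A := A) 0)) n) := by
  haveI := Ctx.quasiIso_b J tc I γ Q hQh hγ hev (BidualCx.rk1 (A := A) 0) hQ₀
  have hz : IsZero ((tc.obj (BidualCx.rk1 (A := A) 0)).homology n) := by
    have h0 : IsZero ((BidualCx.rk1 (A := A) 0).homology n) := HomologicalComplex.isZero_single_obj_homology _ _ _ _ hn
    exact IsZero.of_iso (T.map_isZero h0) (hT.app (BidualCx.rk1 (A := A) 0))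
  exact hz.isIso (hz.of_iso (asIso (HomologicalComplex.homologyMap (Ctx.b J tc I γ (BidualCx.rk1 (A := A) 0)) n)).symm) _

include hQh hγ hev hγn hac hacΨ hT in
/-- biduality in a degree for a finite complex on the chart, given biduality of the ring in that degree -/
theorem Ctx.isIso_f (hQs : Q (BidualCx.rk1 (A := A) n))
    [IsIso (HomologicalComplex.homologyMap (X.f J tc I γ (BidualCx.rk1 (A := A) n)) n)]
    (L : DRing.Cx A) (hL : Q L) : IsIso (HomologicalComplex.homologyMap (X.f J tc I γ L) n) := by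
  haveI hb : ∀ M, Q M → IsIso (HomologicalComplex.homologyMap (Ctx.b J tc I γ M) n) := fun M hM => by
    haveI := Ctx.quasiIso_b J tc I γ Q hQh hγ hev M hM
    infer_instance
  let z : ∀ M, Q M → (T.obj (M.homology n) ⟶ T.obj (M.homology n)) := fun M hM =>
    haveI := hb M hM
    hT.inv.app M ≫ HomologicalComplex.homologyMap (X.f J tc I γ M) n ≫
      inv (HomologicalComplex.homologyMap (Ctx.b J tc I γ M) n) ≫ hT.hom.app M
  have hz : ∀ {M M' : DRing.Cx A} (g : M ⟶ M') (h : Q M) (h' : Q M'),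
      T.map (HomologicalComplex.homologyMap g n) ≫ z M' h' = z M h ≫ T.map (HomologicalComplex.homologyMap g n) := by
    intro M M' g h h'
    haveI := hb M h
    haveI := hb M' h'
    have h1 := hT.inv.naturality g
    have h2 := hT.hom.naturality g
    have h3 := congrArg (HomologicalComplex.homologyMap · n) (X.f_natural J tc I γ hγn g)
    have h4 := congrArg (HomologicalComplex.homologyMap · n) (Ctx.b_natural J tc I γ hγn g)
    simp only [Functor.comp_map, HomologicalComplex.homologyFunctor_map] at h1 h2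
    simp only [HomologicalComplex.homologyMap_comp] at h3 h4
    have h5 : HomologicalComplex.homologyMap (Dm Ψ ((EvalLocal.rr R).obj J) (tc.map (BidualCx.Dmap I g))) n ≫
        inv (HomologicalComplex.homologyMap (Ctx.b J tc I γ M') n) =
        inv (HomologicalComplex.homologyMap (Ctx.b J tc I γ M) n) ≫ HomologicalComplex.homologyMap (tc.map g) n := by
      rw [IsIso.comp_inv_eq, Category.assoc, IsIso.eq_inv_comp, h4]
    simp only [z, Category.assoc]
    rw [reassoc_of% h1, reassoc_of% h3, reassoc_of% h5, h2]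
  haveI : IsIso (z _ hQs) := by
    haveI := hb _ hQs
    dsimp only [z]
    infer_instance
  haveI := isIso_of_endo T n Q hQs z hz L hL
  haveI := hb L hL
  have h : HomologicalComplex.homologyMap (X.f J tc I γ L) n =
      hT.hom.app L ≫ z L hL ≫ hT.inv.app L ≫ HomologicalComplex.homologyMap (Ctx.b J tc I γ L) n := by
    simp [z]
  rw [h]
  infer_instance

end

section

variable {C : Type u'} [Category.{v} C] [Abelian C] {B : Type u''} [Category.{v'} B] [Abelian B]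
  {Φ : CochainComplex C ℤ ⥤ CochainComplex C ℤ ⥤ CochainComplex C ℤ} [∀ X, (Φ.obj X).IsLeftAdjoint]
  {Ψ : CochainComplex B ℤ ⥤ CochainComplex B ℤ ⥤ CochainComplex B ℤ} [∀ X, (Ψ.obj X).IsLeftAdjoint]
  {e : CochainComplex B ℤ ⥤ CochainComplex C ℤ} {R : C ⥤ B} [R.Additive] [PreservesFiniteLimits R]
  [PreservesFiniteColimits R] (X : Ctx Φ Ψ e (EvalLocal.rr R)) (J : CochainComplex C ℤ) [J.IsKInjective]
  [((EvalLocal.rr R).obj J).IsKInjective]
  {A : Type u} [CommRing A] (tc : CochainComplex (ModuleCat.{u} A) ℤ ⥤ CochainComplex B ℤ) (I : DRing.Cx A)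
  (γ : ∀ L : DRing.Cx A, tc.obj (DRing.homCx L I) ⟶ D Ψ ((EvalLocal.rr R).obj J) (tc.obj L))
  (hγn : ∀ {L L' : DRing.Cx A} (g : L ⟶ L'),
    tc.map (BidualCx.Dmap I g) ≫ γ L = γ L' ≫ Dm Ψ ((EvalLocal.rr R).obj J) (tc.map g))
  (hac : ∀ M : CochainComplex C ℤ, ((EvalLocal.rr R).obj M).Acyclic → ((EvalLocal.rr R).obj (D Φ J M)).Acyclic)
  (hacΨ : ∀ M : CochainComplex B ℤ, M.Acyclic → (D Ψ ((EvalLocal.rr R).obj J) M).Acyclic)
  (Q : DRing.Cx A → Prop) (hQh : ∀ L, Q L → Q (DRing.homCx L I))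
  (hQs : ∀ p : ℤ, Q (BidualCx.rk1 (A := A) p))
  (hγ : ∀ L, Q L → QuasiIso (γ L)) (hev : ∀ L, Q L → QuasiIso (tc.map (BidualCx.ev I L)))
  (T : ModuleCat.{u} A ⥤ B) [T.Full] [T.Faithful] [T.Additive]
  (hT : ∀ n : ℤ, tc ⋙ HomologicalComplex.homologyFunctor B (ComplexShape.up ℤ) n ≅
    HomologicalComplex.homologyFunctor (ModuleCat.{u} A) (ComplexShape.up ℤ) n ⋙ T)
  (hequiv : (Ψ.obj (tc.obj (BidualCx.rk1 (A := A) 0))).IsEquivalence)
  (hflat : ∀ {M M' : CochainComplex B ℤ} (g : M ⟶ M'), QuasiIso g →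
    QuasiIso ((Ψ.map g).app (tc.obj (BidualCx.rk1 (A := A) 0))))
  (hsh : ∀ p : ℤ, Nonempty (tc.obj (BidualCx.rk1 (A := A) p) ≅ (tc.obj (BidualCx.rk1 (A := A) 0))⟦-p⟧))

include hγn hac hacΨ hQh hQs hγ hev hT hequiv hflat hsh

/-- biduality on the chart for the copies of the ring -/
theorem Ctx.P_rk1 (p : ℤ) : P X.c J R (e.obj (tc.obj (BidualCx.rk1 (A := A) p))) := by
  haveI := X.unit
  have h0 : P X.c J R (e.obj (tc.obj (BidualCx.rk1 (A := A) 0))) := by
    refine (X.P_iff_f J tc I γ hacΨ Q hγ _ (hQs 0)).2 ((quasiIso_iff _).2 fun n =>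
      (quasiIsoAt_iff_isIso_homologyMap _ n).2 ?_)
    rcases eq_or_ne n 0 with hn | hn
    · haveI := hequiv
      exact X.isIso_f_zero J tc I γ Q hQh hγ hev n T (hT n) hn (hQs 0) hflat
    · exact X.isIso_f_ne J tc I γ Q hQh hγ hev n T (hT n) hn (hQs 0)
  obtain ⟨i⟩ := hsh p
  let i' : tc.obj (BidualCx.rk1 (A := A) p) ≅ (EvalLocal.rr R).obj ((e.obj (tc.obj (BidualCx.rk1 (A := A) 0)))⟦-p⟧) :=
    i ≪≫ (CategoryTheory.shiftFunctor _ (-p)).mapIso (asIso (X.u tc (BidualCx.rk1 (A := A) 0))) ≪≫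
      (((EvalLocal.rr R).commShiftIso (-p)).app _).symm
  let g := (X.a.homEquiv _ _).symm i'.hom
  have hg : X.u tc (BidualCx.rk1 (A := A) p) ≫ (EvalLocal.rr R).map g = i'.hom :=
    (X.a.homEquiv_unit _ _ _).symm.trans (Equiv.apply_symm_apply _ _)
  haveI : IsIso (X.u tc (BidualCx.rk1 (A := A) p) ≫ (EvalLocal.rr R).map g) := by rw [hg]; infer_instance
  haveI : IsIso ((EvalLocal.rr R).map g) := IsIso.of_isIso_comp_left (X.u tc _) _
  exact (P_iff X.c J X.hc₁ X.hc₂ X.d R hac g).2 ((P_shift_int X.c J X.hc₁ X.hc₂ X.d R hac _ (-p)).2 h0)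

/-- biduality on the chart for a finite complex -/
theorem Ctx.P_tc (K : DRing.Cx A) (hK : Q K) : P X.c J R (e.obj (tc.obj K)) := by
  refine (X.P_iff_f J tc I γ hacΨ Q hγ K hK).2 ((quasiIso_iff _).2 fun n =>
    (quasiIsoAt_iff_isIso_homologyMap _ n).2 ?_)
  haveI := (X.P_iff_f J tc I γ hacΨ Q hγ _ (hQs n)).1
    (X.P_rk1 J tc I γ hγn hac hacΨ Q hQh hQs hγ hev T hT hequiv hflat hsh n)
  exact X.isIso_f J tc I γ hγn hac hacΨ Q hQh hγ hev n T (hT n) (hQs n) K hK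

/-- biduality and the cohomology of the dual on a chart, for a complex which is finite there -/
theorem Ctx.main {K : DRing.Cx A} (hK : Q K) {L : CochainComplex C ℤ} {L' : CochainComplex B ℤ}
    (s₁ : L' ⟶ (EvalLocal.rr R).obj L) [QuasiIso s₁] (s₂ : L' ⟶ tc.obj K) [QuasiIso s₂] :
    P X.c J R L ∧ ∀ i : ℤ,
      Nonempty (((EvalLocal.rr R).obj (D Φ J L)).homology i ≅ (tc.obj (DRing.homCx K I)).homology i) := by
  haveI := X.unit
  let g₁ := (X.a.homEquiv _ _).symm s₁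
  have hg₁ : X.a.unit.app L' ≫ (EvalLocal.rr R).map g₁ = s₁ :=
    (X.a.homEquiv_unit _ _ _).symm.trans (Equiv.apply_symm_apply _ _)
  haveI : QuasiIso ((EvalLocal.rr R).map g₁) := by
    haveI : QuasiIso (X.a.unit.app L' ≫ (EvalLocal.rr R).map g₁) := by rw [hg₁]; infer_instance
    exact quasiIso_of_comp_left (X.a.unit.app L') _
  haveI : QuasiIso ((EvalLocal.rr R).map (e.map s₂)) := by
    haveI : QuasiIso (X.a.unit.app L' ≫ (EvalLocal.rr R).map (e.map s₂)) := by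
      rw [← (show s₂ ≫ X.u tc K = X.a.unit.app L' ≫ (EvalLocal.rr R).map (e.map s₂) from X.a.unit.naturality s₂)]
      infer_instance
    exact quasiIso_of_comp_left (X.a.unit.app L') _
  refine ⟨(P_iff X.c J X.hc₁ X.hc₂ X.d R hac g₁).1 ((P_iff X.c J X.hc₁ X.hc₂ X.d R hac (e.map s₂)).2
    (X.P_tc J tc I γ hγn hac hacΨ Q hQh hQs hγ hev T hT hequiv hflat hsh K hK)), fun i => ?_⟩
  haveI := quasiIso_Dm J X.d R hac g₁
  haveI := quasiIso_Dm J X.d R hac (e.map s₂)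
  haveI := X.quasiIso_q J tc I γ Q hγ K hK
  exact ⟨asIso (HomologicalComplex.homologyMap ((EvalLocal.rr R).map (Dm Φ J g₁)) i) ≪≫
    (asIso (HomologicalComplex.homologyMap ((EvalLocal.rr R).map (Dm Φ J (e.map s₂))) i)).symm ≪≫
    (asIso (HomologicalComplex.homologyMap (X.q J tc I γ K) i)).symm⟩

end

end Groth.L29.BidualSch
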